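import Groth.Agent.Lib.SymAlgX.Glue
import Groth.Agent.Lib.OmAff9.Basic
import Groth.Agent.Lib.OmegaLocal4.Affine
import Groth.Agent.Lib.BCCoh.PullSec
import Groth.Agent.Lib.QCoh.Filtration
import Groth.Agent.Lib.RLpsi8.GammaIso
import Groth.Agent.S5005
import Groth.Prelude.Def_Omega4
import Groth.Prelude.Def_OmAff
import Mathlib.Algebra.TrivSqZeroExt.Basic
import Mathlib.RingTheory.Kaehler.Basic

/-!
# Differentials of a vector bundle
-/

set_option autoImplicit false
set_option backward.isDefEq.respectTransparency false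
set_option linter.style.haveILetI false
set_option maxHeartbeats 1000000

universe u

open CategoryTheory AlgebraicGeometry Opposite TopologicalSpace TensorProduct

noncomputable section

namespace GrothLib.VBDiff1

/-- The differentials of an algebra isomorphic to a symmetric algebra. -/
theorem bijective_liftBaseChange {A M C : Type u} [CommRing A] [AddCommGroup M] [Module A M] [CommRing C]
    [Algebra A C] (ε : SymmetricAlgebra A M ≃ₐ[A] C) :
    Function.Bijective (LinearMap.liftBaseChange C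
      ((KaehlerDifferential.D A C).toLinearMap.restrictScalars A ∘ₗ
        (ε.toLinearMap ∘ₗ SymmetricAlgebra.ι A M))) := by
  let Φ := LinearMap.liftBaseChange C
    ((KaehlerDifferential.D A C).toLinearMap.restrictScalars A ∘ₗ
      (ε.toLinearMap ∘ₗ SymmetricAlgebra.ι A M))
  haveI : IsCentralScalar C (C ⊗[A] M) := ⟨fun c n => by
    induction n using TensorProduct.induction_on with
    | zero => simp
    | add x y hx hy => rw [smul_add, smul_add, hx, hy]
    | tmul x m => simp [TensorProduct.smul_tmul', mul_comm]⟩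
  let ψ₀ : SymmetricAlgebra A M →ₐ[A] TrivSqZeroExt C (C ⊗[A] M) := SymmetricAlgebra.lift
    { toFun := fun m => TrivSqZeroExt.inl (ε (SymmetricAlgebra.ι A M m)) + TrivSqZeroExt.inr ((1 : C) ⊗ₜ[A] m)
      map_add' := fun a b => by ext <;> simp [TensorProduct.tmul_add]
      map_smul' := fun r a => by ext <;> simp }
  have hι : ∀ m, ψ₀ (SymmetricAlgebra.ι A M m) =
      TrivSqZeroExt.inl (ε (SymmetricAlgebra.ι A M m)) + TrivSqZeroExt.inr ((1 : C) ⊗ₜ[A] m) := fun m =>
    SymmetricAlgebra.lift_ι_apply _ m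
  have hfst : (TrivSqZeroExt.fstHom A C (C ⊗[A] M)).comp ψ₀ = ε.toAlgHom :=
    SymmetricAlgebra.algHom_ext (LinearMap.ext fun m => by simp [hι])
  let ψ : C →ₐ[A] TrivSqZeroExt C (C ⊗[A] M) := ψ₀.comp ε.symm.toAlgHom
  have hψ : ∀ c, (ψ c).fst = c := fun c => by
    show (ψ₀ (ε.symm c)).fst = c
    rw [show (ψ₀ (ε.symm c)).fst = ε (ε.symm c) from congr($hfst (ε.symm c)), AlgEquiv.apply_symm_apply]
  let D : Derivation A C (C ⊗[A] M) :=
    { toFun := fun c => TrivSqZeroExt.snd (ψ c)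
      map_add' := fun a b => by simp
      map_smul' := fun r a => by simp
      map_one_eq_zero' := by simp
      leibniz' := fun a b => by
        show TrivSqZeroExt.snd (ψ (a * b)) = a • TrivSqZeroExt.snd (ψ b) + b • TrivSqZeroExt.snd (ψ a)
        rw [map_mul, TrivSqZeroExt.snd_mul, op_smul_eq_smul, hψ, hψ] }
  have hDι : ∀ m, D (ε (SymmetricAlgebra.ι A M m)) = (1 : C) ⊗ₜ[A] m := fun m => by
    show TrivSqZeroExt.snd (ψ₀ (ε.symm _)) = _
    rw [AlgEquiv.symm_apply_apply]
    simp [hι]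
  have h1 : D.liftKaehlerDifferential ∘ₗ Φ = LinearMap.id := by
    ext m
    show D.liftKaehlerDifferential (Φ ((1 : C) ⊗ₜ[A] m)) = (1 : C) ⊗ₜ[A] m
    simp [Φ, hDι]
  have h2 : Φ ∘ₗ D.liftKaehlerDifferential = LinearMap.id := by
    refine Derivation.liftKaehlerDifferential_unique _ _ (Derivation.ext fun c => ?_)
    show Φ (D.liftKaehlerDifferential (KaehlerDifferential.D A C c)) = KaehlerDifferential.D A C c
    rw [Derivation.liftKaehlerDifferential_comp_D]
    obtain ⟨a, rfl⟩ := ε.surjective c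
    induction a using SymmetricAlgebra.induction with
    | algebraMap r => simp [AlgEquiv.commutes]
    | ι m => simp [Φ, hDι]
    | mul a b ha hb => simp [ha, hb]
    | add a b ha hb => simp [ha, hb]
  exact Function.bijective_iff_has_inverse.mpr ⟨D.liftKaehlerDifferential, fun x => congr($h1 x), fun x => congr($h2 x)⟩

variable {X S : Scheme.{u}} (f : X ⟶ S)

/-- Sections of a sheaf of differentials on affine opens are the Kähler differentials, compatibly with `d`. -/
theorem exists_bijective_toSect [QuasiSeparated f] {Ω' : X.Modules} {d : OmegaSh.Der f Ω'}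
    (hd : OmegaSh.IsUniversal d) {U : X.Opens} {V : S.Opens} (hU : IsAffineOpen U) (hV : IsAffineOpen V)
    (e : U ≤ f ⁻¹ᵁ V) :
    letI := (f.appLE V U e).hom.toAlgebra
    ∃ q : Ω[Γ(X, U)⁄Γ(S, V)] →ₗ[Γ(X, U)] Γ(Ω', U),
      Function.Bijective q ∧ ∀ b, q (KaehlerDifferential.D Γ(S, V) Γ(X, U) b) = d.app U b := by
  letI := (f.appLE V U e).hom.toAlgebra
  have hd₀ : OmegaSh.IsUniversal (OmegaSh.dOmega f) := Groth.Agent.S5005.result f
  obtain ⟨α, hα, -⟩ := hd₀ Ω' d
  obtain ⟨β, hβ, -⟩ := hd (Omega.sheaf f) (OmegaSh.dOmega f)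
  have hαβ : α ≫ β = 𝟙 _ := (hd₀ _ (OmegaSh.dOmega f)).unique (by
    rw [show (OmegaSh.dOmega f).postcomp (α ≫ β).val =
      ((OmegaSh.dOmega f).postcomp α.val).postcomp β.val from rfl, hα, hβ]) rfl
  have hβα : β ≫ α = 𝟙 _ := (hd _ d).unique (by
    rw [show d.postcomp (β ≫ α).val = (d.postcomp β.val).postcomp α.val from rfl, hβ, hα]) rfl
  haveI : IsIso α := ⟨β, hαβ, hβα⟩
  let τ : Ω[Γ(X, U)⁄Γ(S, V)] →ₗ[Γ(X, U)] Γ(Omega.sheaf f, U) := (OmAff.toSect f V U e).hom
  let q : Ω[Γ(X, U)⁄Γ(S, V)] →ₗ[Γ(X, U)] Γ(Ω', U) := (QCoh.appLinear α U).comp τ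
  refine ⟨q, ?_, fun b => ?_⟩
  · exact (ConcreteCategory.bijective_of_isIso (α.app U)).comp (OmAff9.bijective_toSect f hU hV e)
  · show α.app U (τ (KaehlerDifferential.D Γ(S, V) Γ(X, U) b)) = d.app U b
    rw [show τ (KaehlerDifferential.D Γ(S, V) Γ(X, U) b) = OmegaSh.dSect f U b from OmAff.toSect_d f V U e b]
    exact PresheafOfModules.Derivation.congr_d hα (X := op U) b

/-- The map `p^*E ⟶ Ω` of a vector bundle is an isomorphism. -/
theorem isIso_of_compat {E : S.Modules} (hE : Coh.IsQCoh E) (A : RelSpec.QCAlg S) (j : E ⟶ A.toModule)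
    (hA : RelSpec.IsSymAlg E A j) {Ω' : A.spec.Modules} {d : OmegaSh.Der A.π Ω'}
    (hd : OmegaSh.IsUniversal d) (φ : (Scheme.Modules.pullback A.π).obj E ⟶ Ω')
    (hφ : ∀ (U : S.Opens) (t : Γ(E, U)) (t' : Γ(A.spec, A.π ⁻¹ᵁ U)),
      A.gammaMap.app (op U) t' = j.app U t →
        φ.app (A.π ⁻¹ᵁ U) (OmegaSh.pullSect A.π E U t) = d.app (A.π ⁻¹ᵁ U) t') :
    IsIso φ := by
  haveI : E.IsQuasicoherent := hE
  haveI := OmegaLocal4.isQuasicoherent hd
  haveI : ((Scheme.Modules.pullback A.π).obj E).IsQuasicoherent := FittSheaf.isQuasicoherent_pullback A.π E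
  have hsym := SymAlgX.isAffSym_of_isSymAlg hE hA
  refine QCoh.isIso_of_bijective_on_cover φ (fun U : S.affineOpens => A.π ⁻¹ᵁ U.1) ?_
    (fun U => U.2.preimage A.π) ?_
  · refine IsOpenCover.mk (eq_top_iff.mpr fun x _ => ?_)
    obtain ⟨V, hV, hxV, -⟩ := exists_isAffineOpen_mem_and_subset (x := A.π x) (U := ⊤) trivial
    exact Opens.mem_iSup.mpr ⟨⟨V, hV⟩, hxV⟩
  rintro ⟨U, hU⟩
  let W := A.π ⁻¹ᵁ U
  show Function.Bijective (φ.app W)
  have hW : IsAffineOpen W := hU.preimage A.π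
  letI := (A.π.appLE U W le_rfl).hom.toAlgebra
  letI : Module Γ(S, U) Γ((Scheme.Modules.pullback A.π).obj E, W) := Module.compHom _ (A.π.appLE U W le_rfl).hom
  haveI : IsScalarTower Γ(S, U) Γ(A.spec, W) Γ((Scheme.Modules.pullback A.π).obj E, W) :=
    IsScalarTower.of_algebraMap_smul fun _ _ => rfl
  obtain ⟨p, hp, hps⟩ := BCCoh.isBaseChange_pullRes A.π E hU hW (le_refl W)
  obtain ⟨e, hes, hej⟩ := hsym U hU
  haveI := RLpsi8.isIso_gammaMap A
  let γ : Γ(A.spec, W) ≃+* A.presheaf.obj (op U) := (asIso (A.gammaMap.app (op U))).commRingCatIsoToRingEquiv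
  have hγ : ∀ r, γ (algebraMap Γ(S, U) Γ(A.spec, W) r) = (A.str.app (op U)).hom r := fun r => by
    rw [← RelSpec.QCAlg.π_c_gammaMap A]
    show A.gammaMap.app (op U) (A.π.appLE U W le_rfl r) = A.gammaMap.app (op U) (A.π.app U r)
    rw [Scheme.Hom.app_eq_appLE]
  let ε : SymmetricAlgebra Γ(S, U) Γ(E, U) ≃ₐ[Γ(S, U)] Γ(A.spec, W) :=
    AlgEquiv.ofRingEquiv (f := e.trans γ.symm) fun r => by
      show γ.symm (e _) = _
      rw [RingEquiv.symm_apply_eq, hγ]
      exact hes r
  have hε : ∀ t, A.gammaMap.app (op U) (ε (SymmetricAlgebra.ι Γ(S, U) Γ(E, U) t)) = j.app U t := fun t => by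
    show γ (γ.symm (e _)) = _
    rw [RingEquiv.apply_symm_apply]
    exact hej t
  obtain ⟨q, hq, hqd⟩ := exists_bijective_toSect A.π hd hW hU (le_refl W)
  have hpull : ∀ t, BCCoh.pullRes A.π E U W le_rfl t = OmegaSh.pullSect A.π E U t := fun t => by
    show ((Scheme.Modules.pullback A.π).obj E).presheaf.map (homOfLE (le_refl W)).op _ = _
    rw [show (homOfLE (le_refl W)).op = 𝟙 (op W) from rfl, CategoryTheory.Functor.map_id]
    rfl
  let P := hp.equiv
  have hkey : ∀ z, φ.app W (P z) = q (LinearMap.liftBaseChange Γ(A.spec, W)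
      ((KaehlerDifferential.D Γ(S, U) Γ(A.spec, W)).toLinearMap.restrictScalars Γ(S, U) ∘ₗ
        (ε.toLinearMap ∘ₗ SymmetricAlgebra.ι Γ(S, U) Γ(E, U))) z) := by
    intro z
    induction z using TensorProduct.induction_on with
    | zero => simp
    | add x y hx hy => simp only [map_add, hx, hy]
    | tmul c t =>
      rw [show P (c ⊗ₜ t) = c • p t from hp.equiv_tmul c t, LinearMap.liftBaseChange_tmul]
      refine (Scheme.Modules.Hom.app_smul φ c (p t)).trans (Eq.trans (congrArg (c • ·) ?_) (q.map_smul _ _).symm)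
      rw [hps, hpull]
      exact (hφ U t _ (hε t)).trans (hqd _).symm
  have hcomp : φ.app W ∘ P = q ∘ LinearMap.liftBaseChange Γ(A.spec, W)
      ((KaehlerDifferential.D Γ(S, U) Γ(A.spec, W)).toLinearMap.restrictScalars Γ(S, U) ∘ₗ
        (ε.toLinearMap ∘ₗ SymmetricAlgebra.ι Γ(S, U) Γ(E, U))) := funext hkey
  have hb : Function.Bijective (φ.app W ∘ P) := by rw [hcomp]; exact hq.comp (bijective_liftBaseChange ε)
  exact (Function.Bijective.of_comp_iff _ P.bijective).1 hb

end GrothLib.VBDiff1
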